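import Cfsg.Agent.H39.Dihedral
import Cfsg.Agent.H1.Asch.RedLocal
import Cfsg.Prelude.Def_CaseTheorems
import Cfsg.Agent.Fusion.Basic

/-!
# A subgroup containing the normalisers of the 2-subgroups of rank two

Every pair of commuting involutions fixes exactly one coset, and in the centraliser of an
involution fixing two cosets a central involution `v` of a Sylow 2-subgroup and its product with
the involution represent all classes of involutions.
-/

set_option autoImplicit false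
set_option linter.unusedSectionVars false
set_option linter.style.haveILetI false

namespace Cfsg.Agent.H1.Core2

open Subgroup MulAction
open Cfsg.Agent.H39
open Cfsg.Agent.H1.Asch.Red (smul_coset_eq_iff fixed_one_iff mk_eq_one_iff)

universe u

variable {G : Type u} [Group G]

/-- `M` contains the Sylow subgroup `S` and the normalisers of its subgroups of rank at least two,
and `G` has rank at least two. -/
structure TwoCore (M : Subgroup G) (S : Sylow 2 G) : Prop where
  le : (S : Subgroup G) ≤ M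
  norm : ∀ P : Subgroup G, P ≤ S → ¬ Cfsg.PRankLE 2 1 P → normalizer (P : Set G) ≤ M
  rank : ∃ a b : G, orderOf a = 2 ∧ orderOf b = 2 ∧ a ≠ b ∧ Commute a b

theorem commute_of_mem_pair {a b : G} (hab : Commute a b) {x y : G}
    (hx : x ∈ closure ({a, b} : Set G)) (hy : y ∈ closure ({a, b} : Set G)) : Commute x y := by
  haveI : IsMulCommutative (closure ({a, b} : Set G)) :=
    Subgroup.isMulCommutative_closure fun x hx y hy => by
      rcases hx with rfl | rfl <;> rcases hy with rfl | rfl <;>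
        first | rfl | exact hab.eq | exact hab.symm.eq
  exact congrArg Subtype.val (mul_comm' (⟨x, hx⟩ : closure ({a, b} : Set G)) ⟨y, hy⟩)

theorem mul_self_of_mem_pair {a b : G} (ha : orderOf a = 2) (hb : orderOf b = 2)
    (hab : Commute a b) {y : G} (hy : y ∈ closure ({a, b} : Set G)) : y * y = 1 := by
  induction hy using Subgroup.closure_induction with
  | mem x hx =>
    rcases hx with rfl | rfl
    exacts [mul_self_of_orderOf_eq_two ha, mul_self_of_orderOf_eq_two hb]
  | one => exact mul_one 1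
  | mul x y hx hy h1 h2 =>
    rw [(commute_of_mem_pair hab hx hy).symm.mul_mul_mul_comm, h1, h2, one_mul]
  | inv x _ h1 => rw [← mul_inv_rev, h1, inv_one]

theorem isPGroup_closure_pair {a b : G} (ha : orderOf a = 2) (hb : orderOf b = 2)
    (hab : Commute a b) : IsPGroup 2 (closure ({a, b} : Set G)) :=
  fun y => ⟨1, Subtype.ext (by simpa [sq] using mul_self_of_mem_pair ha hb hab y.2)⟩

/-- A 2-subgroup with two commuting involutions has rank at least two. -/
theorem not_pRankLE_one [Finite G] {P : Subgroup G} {a b : G} (haP : a ∈ P) (hbP : b ∈ P)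
    (ha : orderOf a = 2) (hb : orderOf b = 2) (hne : a ≠ b) (hab : Commute a b) :
    ¬ Cfsg.PRankLE 2 1 P := by
  intro h
  have hle : closure ({a, b} : Set G) ≤ P :=
    (closure_le P).mpr (Set.insert_subset haP (Set.singleton_subset_iff.mpr hbP))
  set A := (closure ({a, b} : Set G)).subgroupOf P with hA
  haveI : IsMulCommutative A :=
    ⟨⟨fun x y => Subtype.ext (Subtype.ext (commute_of_mem_pair hab x.2 y.2).eq)⟩⟩
  have hexp : ∀ x ∈ A, x ^ 2 = 1 := fun x hx =>
    Subtype.ext (by simpa [sq] using mul_self_of_mem_pair ha hb hab (y := (x : G)) hx)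
  have hcard := h A inferInstance hexp
  rw [Nat.card_congr (subgroupOfEquivOfLe hle).toEquiv] at hcard
  let f : Fin 3 → closure ({a, b} : Set G) :=
    ![1, ⟨a, subset_closure (Set.mem_insert _ _)⟩,
      ⟨b, subset_closure (Set.mem_insert_of_mem _ rfl)⟩]
  have hf : Function.Injective f := by
    have h1 := ne_one_of_orderOf_eq_two ha
    have h2 := ne_one_of_orderOf_eq_two hb
    intro i j hij
    fin_cases i <;> fin_cases j <;> simp_all [f, Subtype.ext_iff, eq_comm]
  have := Nat.card_le_card_of_injective f hf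
  rw [Nat.card_fin] at this
  omega

/-- A 2-subgroup not Sylow is normalised by a 2-element outside it. -/
theorem exists_normalizer_not_mem [Finite G] {T : Subgroup G} {P : Sylow 2 G} (hTP : T ≤ P)
    (hne : T ≠ P) : ∃ n ∈ (P : Subgroup G), n ∉ T ∧ n ∈ normalizer (T : Set G) := by
  haveI : Fact (Nat.Prime 2) := ⟨Nat.prime_two⟩
  haveI : Group.IsNilpotent (P : Subgroup G) := P.isPGroup'.isNilpotent
  have hlt : T.subgroupOf (P : Subgroup G) < ⊤ :=
    lt_top_iff_ne_top.mpr fun h => hne (le_antisymm hTP (subgroupOf_eq_top.mp h))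
  obtain ⟨n, hn, hnT⟩ := SetLike.exists_of_lt (Group.normalizerCondition_of_isNilpotent _ hlt)
  refine ⟨n, n.2, fun h => hnT h, mem_normalizer_iff.mpr fun t => ?_⟩
  constructor
  · intro ht
    have := (mem_normalizer_iff.mp hn ⟨t, hTP ht⟩).mp ht
    exact this
  · intro ht
    have htP : t ∈ (P : Subgroup G) := by
      have := (P : Subgroup G).mul_mem ((P : Subgroup G).mul_mem (inv_mem n.2) (hTP ht)) n.2
      simpa [mul_assoc] using this
    exact (mem_normalizer_iff.mp hn ⟨t, htP⟩).mpr ht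

namespace TwoCore

variable {M : Subgroup G} {S : Sylow 2 G} (h : TwoCore M S)
include h

variable [Finite G]

theorem exists_conj_le {A : Subgroup G} (hAM : A ≤ M) (hA : IsPGroup 2 A) :
    ∃ m ∈ M, ∀ a ∈ A, m * a * m⁻¹ ∈ (S : Subgroup G) := by
  haveI : Fact (Nat.Prime 2) := ⟨Nat.prime_two⟩
  obtain ⟨R, hR⟩ := (hA.comap_subtype (K := M)).exists_le_sylow
  obtain ⟨m, hm⟩ := exists_smul_eq M R (S.subtype h.le)
  refine ⟨m, m.2, fun a ha => ?_⟩
  have hmem : m * ⟨a, hAM ha⟩ * m⁻¹ ∈ ((m • R : Sylow 2 M) : Subgroup M) := by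
    rw [Sylow.coe_subgroup_smul]
    exact ⟨⟨a, hAM ha⟩, hR ha, rfl⟩
  rw [hm, Sylow.coe_subtype, mem_subgroupOf] at hmem
  exact hmem

/-- The normaliser of a 2-subgroup of `M` of rank at least two lies in `M`. -/
theorem normalizer_le {T : Subgroup G} (hTM : T ≤ M) (hT : IsPGroup 2 T) {a b : G} (haT : a ∈ T)
    (hbT : b ∈ T) (ha : orderOf a = 2) (hb : orderOf b = 2) (hne : a ≠ b) (hab : Commute a b) :
    normalizer (T : Set G) ≤ M := by
  obtain ⟨m, hm, hmS⟩ := h.exists_conj_le hTM hT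
  have hle : T.map (MulAut.conj m).toMonoidHom ≤ (S : Subgroup G) := by
    rintro _ ⟨t, ht, rfl⟩
    exact hmS t ht
  have hr : ¬ Cfsg.PRankLE 2 1 (T.map (MulAut.conj m).toMonoidHom) :=
    not_pRankLE_one (mem_map_of_mem _ haT) (mem_map_of_mem _ hbT)
      (by simpa [H39.orderOf_conj] using ha) (by simpa [H39.orderOf_conj] using hb)
      (fun e => hne ((MulAut.conj m).injective e)) (hab.map _)
  intro n hn
  have h1 : m * n * m⁻¹ ∈ normalizer
      ((T.map (MulAut.conj m).toMonoidHom : Subgroup G) : Set G) := by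
    rw [mem_normalizer_iff]
    intro t
    simp only [Subgroup.mem_map, MulEquiv.coe_toMonoidHom, MulAut.conj_apply]
    constructor
    · rintro ⟨s, hs, rfl⟩
      exact ⟨n * s * n⁻¹, (mem_normalizer_iff.mp hn s).mp hs, by group⟩
    · rintro ⟨s, hs, e⟩
      refine ⟨n⁻¹ * s * n, (mem_normalizer_iff.mp hn _).mpr (by simpa [mul_assoc] using hs), ?_⟩
      calc m * (n⁻¹ * s * n) * m⁻¹ = (m * n * m⁻¹)⁻¹ * (m * s * m⁻¹) * (m * n * m⁻¹) := by group
        _ = t := by rw [e]; group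
  have h2 := h.norm _ hle hr h1
  simpa [mul_assoc] using mul_mem (mul_mem (inv_mem hm) h2) hm

/-- Two commuting involutions fix a point. -/
theorem exists_fixed {a b : G} (ha : orderOf a = 2) (hb : orderOf b = 2) (hab : Commute a b) :
    ∃ p : G ⧸ M, a • p = p ∧ b • p = p := by
  haveI : Fact (Nat.Prime 2) := ⟨Nat.prime_two⟩
  obtain ⟨P, hP⟩ := (isPGroup_closure_pair ha hb hab).exists_le_sylow
  obtain ⟨g, hg⟩ := exists_smul_eq G S P
  refine ⟨QuotientGroup.mk g, ?_, ?_⟩
  all_goals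
    rw [smul_coset_eq_iff]
    apply h.le
  · have := hP (subset_closure (Set.mem_insert a _))
    rw [← hg, Sylow.coe_subgroup_smul] at this
    obtain ⟨s, hs, rfl⟩ := this
    have hs' : s ∈ (S : Subgroup G) := hs
    simpa [mul_assoc] using hs'
  · have := hP (subset_closure (Set.mem_insert_of_mem a rfl))
    rw [← hg, Sylow.coe_subgroup_smul] at this
    obtain ⟨s, hs, rfl⟩ := this
    have hs' : s ∈ (S : Subgroup G) := hs
    simpa [mul_assoc] using hs'

/-- Two commuting involutions fix only one point. -/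
theorem fixed_unique {a b : G} (ha : orderOf a = 2) (hb : orderOf b = 2) (hne : a ≠ b)
    (hab : Commute a b) {p q : G ⧸ M} (hap : a • p = p) (hbp : b • p = p) (haq : a • q = q)
    (hbq : b • q = q) : p = q := by
  haveI : Fact (Nat.Prime 2) := ⟨Nat.prime_two⟩
  obtain ⟨k, rfl⟩ := QuotientGroup.mk_surjective p
  obtain ⟨l, rfl⟩ := QuotientGroup.mk_surjective q
  rw [smul_coset_eq_iff] at hap hbp haq hbq
  refine QuotientGroup.eq.mpr ?_
  set g := k⁻¹ * l with hg
  set a' := k⁻¹ * a * k with ha'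
  set b' := k⁻¹ * b * k with hb'
  have ha2 : orderOf a' = 2 := by
    rw [ha', show k⁻¹ * a * k = k⁻¹ * a * k⁻¹⁻¹ by rw [inv_inv], H39.orderOf_conj, ha]
  have hb2 : orderOf b' = 2 := by
    rw [hb', show k⁻¹ * b * k = k⁻¹ * b * k⁻¹⁻¹ by rw [inv_inv], H39.orderOf_conj, hb]
  have hab' : Commute a' b' := by
    have := hab.map (MulAut.conj k⁻¹).toMonoidHom
    simpa using this
  have hne' : a' ≠ b' := fun e => hne (by simpa [ha', hb'] using e)
  set X := M ⊓ M.map (MulAut.conj g).toMonoidHom with hX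
  have hin : ∀ c : G, k⁻¹ * c * k ∈ M → l⁻¹ * c * l ∈ M → k⁻¹ * c * k ∈ X := fun c h1 h2 =>
    ⟨h1, ⟨l⁻¹ * c * l, h2, by
      show g * (l⁻¹ * c * l) * g⁻¹ = k⁻¹ * c * k
      rw [hg]; group⟩⟩
  have hV : closure ({a', b'} : Set G) ≤ X := (closure_le X).mpr
    (Set.insert_subset (hin a hap haq) (Set.singleton_subset_iff.mpr (hin b hbp hbq)))
  obtain ⟨R, hR⟩ :=
    ((isPGroup_closure_pair ha2 hb2 hab').comap_subtype (K := X)).exists_le_sylow
  set T := (R : Subgroup X).map X.subtype with hT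
  have hTX : T ≤ X := map_subtype_le _
  have hTp : IsPGroup 2 T := R.isPGroup'.map _
  have haT : a' ∈ T :=
    ⟨⟨a', hin a hap haq⟩, hR (subset_closure (Set.mem_insert a' _)), rfl⟩
  have hbT : b' ∈ T :=
    ⟨⟨b', hin b hbp hbq⟩, hR (subset_closure (Set.mem_insert_of_mem a' rfl)), rfl⟩
  have hN1 : normalizer (T : Set G) ≤ M :=
    h.normalizer_le (hTX.trans inf_le_left) hTp haT hbT ha2 hb2 hne' hab'
  set T' := T.map (MulAut.conj g⁻¹).toMonoidHom with hT'
  have hT'M : T' ≤ M := by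
    rintro _ ⟨t, ht, rfl⟩
    obtain ⟨m, hm, e⟩ := (hTX ht).2
    simpa [← e, mul_assoc] using hm
  have hN2 : normalizer (T' : Set G) ≤ M :=
    h.normalizer_le hT'M (hTp.map _) (mem_map_of_mem _ haT) (mem_map_of_mem _ hbT)
      ((orderOf_conj g⁻¹ a').trans ha2) ((orderOf_conj g⁻¹ b').trans hb2)
      (fun e => hne' ((MulAut.conj g⁻¹).injective e)) (hab'.map _)
  have hNX : ∀ n ∈ normalizer (T : Set G), n ∈ X := by
    refine fun n hn => ⟨hN1 hn, ⟨g⁻¹ * n * g, hN2 ?_, by show g * (g⁻¹ * n * g) * g⁻¹ = n; group⟩⟩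
    rw [mem_normalizer_iff]
    intro t
    simp only [hT', Subgroup.mem_map, MulEquiv.coe_toMonoidHom, MulAut.conj_apply, inv_inv]
    constructor
    · rintro ⟨s, hs, rfl⟩
      exact ⟨n * s * n⁻¹, (mem_normalizer_iff.mp hn s).mp hs, by group⟩
    · rintro ⟨s, hs, e⟩
      refine ⟨n⁻¹ * s * n, (mem_normalizer_iff.mp hn _).mpr (by simpa [mul_assoc] using hs), ?_⟩
      calc g⁻¹ * (n⁻¹ * s * n) * g
          = (g⁻¹ * n * g)⁻¹ * (g⁻¹ * s * g) * (g⁻¹ * n * g) := by group
        _ = t := by rw [e]; group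
  obtain ⟨P, hP⟩ := hTp.exists_le_sylow
  have hTP : T = P := by
    by_contra hTne
    obtain ⟨n, hnP, hnT, hnN⟩ := exists_normalizer_not_mem hP hTne
    have hT1 : (T ⊔ zpowers n).comap X.subtype = (R : Subgroup X) := by
      refine R.is_maximal' (IsPGroup.comap_subtype (IsPGroup.to_le P.isPGroup'
        (sup_le hP (zpowers_le.mpr hnP)))) fun r hr => ?_
      exact le_sup_left (a := T) (b := zpowers n) ⟨r, hr, rfl⟩
    exact hnT ⟨⟨n, hNX n hnN⟩, hT1 ▸ mem_sup_right (mem_zpowers n), rfl⟩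
  obtain ⟨m, hm, hmS⟩ := h.exists_conj_le (hTX.trans inf_le_left) hTp
  obtain ⟨m', hm', hm'S⟩ := h.exists_conj_le hT'M (hTp.map _)
  have hcard : ∀ e : G ≃* G, Nat.card (T.map e.toMonoidHom) = Nat.card (S : Subgroup G) := fun e => by
    rw [Subgroup.card_map_of_injective e.injective, hTP, P.card_eq_multiplicity, S.card_eq_multiplicity]
  have e1 : T.map (MulAut.conj m).toMonoidHom = (S : Subgroup G) :=
    eq_of_le_of_card_ge (by rintro _ ⟨t, ht, rfl⟩; exact hmS t ht) (hcard _).ge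
  have e2 : T.map (MulAut.conj (m' * g⁻¹)).toMonoidHom = (S : Subgroup G) :=
    eq_of_le_of_card_ge (by
      rintro _ ⟨t, ht, rfl⟩
      simpa [mul_assoc] using hm'S _ (mem_map_of_mem (MulAut.conj g⁻¹).toMonoidHom ht))
      (hcard _).ge
  have hmem : m⁻¹ * (m' * g⁻¹) ∈ normalizer (T : Set G) := by
    rw [mem_normalizer_iff]
    intro t
    constructor
    · intro ht
      have : (MulAut.conj (m' * g⁻¹)).toMonoidHom t ∈ (S : Subgroup G) := e2 ▸ mem_map_of_mem _ ht
      rw [← e1] at this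
      obtain ⟨s, hs, e⟩ := this
      have e' : m * s * m⁻¹ = m' * g⁻¹ * t * (m' * g⁻¹)⁻¹ := e
      rwa [show m⁻¹ * (m' * g⁻¹) * t * (m⁻¹ * (m' * g⁻¹))⁻¹ =
        m⁻¹ * (m' * g⁻¹ * t * (m' * g⁻¹)⁻¹) * m by group, ← e',
        show m⁻¹ * (m * s * m⁻¹) * m = s by group]
    · intro ht
      have : (MulAut.conj m).toMonoidHom (m⁻¹ * (m' * g⁻¹) * t * (m⁻¹ * (m' * g⁻¹))⁻¹) ∈
          (S : Subgroup G) := e1 ▸ mem_map_of_mem _ ht
      rw [← e2] at this
      obtain ⟨s, hs, e⟩ := this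
      have e' : m' * g⁻¹ * s * (m' * g⁻¹)⁻¹ =
          m * (m⁻¹ * (m' * g⁻¹) * t * (m⁻¹ * (m' * g⁻¹))⁻¹) * m⁻¹ := e
      rw [show m * (m⁻¹ * (m' * g⁻¹) * t * (m⁻¹ * (m' * g⁻¹))⁻¹) * m⁻¹ =
        m' * g⁻¹ * t * (m' * g⁻¹)⁻¹ by group] at e'
      rwa [← (MulAut.conj (m' * g⁻¹)).injective e']
  have h3 : g⁻¹ ∈ M := by
    have := mul_mem (mul_mem (inv_mem hm') hm) (hN1 hmem)
    simpa [mul_assoc] using this
  show g ∈ M
  simpa using inv_mem h3

/-- At a point fixed by an involution there is a second involution commuting with it. -/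
theorem exists_partner {x : G} (hx : orderOf x = 2) {p : G ⧸ M} (hp : x • p = p) :
    ∃ b : G, orderOf b = 2 ∧ b ≠ x ∧ Commute b x ∧ b • p = p := by
  haveI : Fact (Nat.Prime 2) := ⟨Nat.prime_two⟩
  obtain ⟨k, rfl⟩ := QuotientGroup.mk_surjective p
  rw [smul_coset_eq_iff] at hp
  set y := k⁻¹ * x * k with hy
  have hy2 : orderOf y = 2 := by
    rw [hy, show k⁻¹ * x * k = k⁻¹ * x * k⁻¹⁻¹ by rw [inv_inv], H39.orderOf_conj, hx]
  obtain ⟨m, hm, hmS⟩ := h.exists_conj_le (zpowers_le.mpr hp)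
    (IsPGroup.of_card (n := 1) (by rw [Nat.card_zpowers, hy2]; rfl))
  set s := m * y * m⁻¹ with hs
  have hs2 : orderOf s = 2 := by rw [hs, H39.orderOf_conj, hy2]
  have hsS : s ∈ (S : Subgroup G) := hmS y (mem_zpowers y)
  obtain ⟨c, hc2, hcs, hcc, hcM⟩ : ∃ c : G, orderOf c = 2 ∧ c ≠ s ∧ Commute c s ∧ c ∈ M := by
    by_cases hz : ∀ t ∈ (S : Subgroup G), Commute t s
    · obtain ⟨a, b, ha, hb, hne, hab⟩ := h.rank
      obtain ⟨P, hP⟩ := (isPGroup_closure_pair ha hb hab).exists_le_sylow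
      obtain ⟨g, hg⟩ := exists_smul_eq G P S
      have hconj : ∀ c ∈ closure ({a, b} : Set G), g * c * g⁻¹ ∈ (S : Subgroup G) := fun c hc => by
        rw [← hg, Sylow.coe_subgroup_smul]
        exact ⟨c, hP hc, rfl⟩
      have ha' := hconj a (subset_closure (Set.mem_insert a _))
      have hb' := hconj b (subset_closure (Set.mem_insert_of_mem a rfl))
      by_cases e : g * a * g⁻¹ = s
      · exact ⟨g * b * g⁻¹, by rw [H39.orderOf_conj, hb], fun e' => hne
          ((MulAut.conj g).injective (e.trans e'.symm)), hz _ hb', h.le hb'⟩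
      · exact ⟨g * a * g⁻¹, by rw [H39.orderOf_conj, ha], e, hz _ ha', h.le ha'⟩
    · push Not at hz
      obtain ⟨t, ht, hts⟩ := hz
      haveI : Nontrivial (S : Subgroup G) := nontrivial_of_ne ⟨s, hsS⟩ 1
        (fun e => ne_one_of_orderOf_eq_two hs2 (congrArg Subtype.val e))
      haveI := S.isPGroup'.center_nontrivial
      obtain ⟨n, hn, hcard⟩ :=
        (S.isPGroup'.to_subgroup (center (S : Subgroup G))).nontrivial_iff_card.mp inferInstance
      obtain ⟨w, hw⟩ := exists_prime_orderOf_dvd_card' 2 (hcard ▸ dvd_pow_self 2 hn.ne')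
      have hw2 : orderOf ((w : (S : Subgroup G)) : G) = 2 := by
        rw [Subgroup.orderOf_coe, Subgroup.orderOf_coe, hw]
      have hwc : ∀ r ∈ (S : Subgroup G), Commute ((w : (S : Subgroup G)) : G) r := fun r hr =>
        (congrArg Subtype.val (Subgroup.mem_center_iff.mp w.2 ⟨r, hr⟩)).symm
      exact ⟨_, hw2, fun e => hts (e ▸ (hwc t ht).symm), hwc s hsS, h.le (w : (S : Subgroup G)).2⟩
  refine ⟨k * m⁻¹ * c * (k * m⁻¹)⁻¹, by rw [H39.orderOf_conj, hc2], fun e => hcs ?_, ?_, ?_⟩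
  · refine (MulAut.conj (k * m⁻¹)).injective ?_
    show k * m⁻¹ * c * (k * m⁻¹)⁻¹ = k * m⁻¹ * s * (k * m⁻¹)⁻¹
    rw [e, hs, hy]; group
  · have := hcc.map (MulAut.conj (k * m⁻¹)).toMonoidHom
    simp only [MulEquiv.coe_toMonoidHom, MulAut.conj_apply] at this
    rwa [show k * m⁻¹ * s * (k * m⁻¹)⁻¹ = x by rw [hs, hy]; group] at this
  · rw [smul_coset_eq_iff, show k⁻¹ * (k * m⁻¹ * c * (k * m⁻¹)⁻¹) * k = m⁻¹ * c * m by group]
    exact mul_mem (mul_mem (inv_mem hm) hcM) hm

end TwoCore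

end Cfsg.Agent.H1.Core2
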