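import Cfsg.Agent.H1.Core2.Basic

/-!
# The classes of involutions in the centraliser of an involution fixing two points

If the involution `v ≠ x` is central in a Sylow 2-subgroup of `C(x)`, and `x` fixes two points,
then every involution `≠ x` of `C(x)` is conjugate in `C(x)` to exactly one of `v` and `v * x`.
-/

set_option autoImplicit false
set_option linter.unusedSectionVars false
set_option linter.style.haveILetI false

namespace Cfsg.Agent.H1.Core2

open Subgroup MulAction
open Cfsg.Agent.H39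

universe u

variable {G : Type u} [Group G]

/-- The product of two commuting distinct involutions is an involution. -/
theorem orderOf_mul_two {u x : G} (hu : orderOf u = 2) (hx : orderOf x = 2) (hne : u ≠ x)
    (hc : Commute u x) : orderOf (u * x) = 2 := by
  refine orderOf_eq_two_of_mul_self ?_ fun e => hne ?_
  · rw [hc.symm.mul_mul_mul_comm, mul_self_of_orderOf_eq_two hu, mul_self_of_orderOf_eq_two hx,
      one_mul]
  · rw [mul_eq_one_iff_eq_inv.mp e, inv_eq_of_orderOf_eq_two hx]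

/-- `c` carries a fixed point of `v` to one of its conjugate. -/
theorem smul_conj {Ω : Type*} [MulAction G Ω] {c v w : G} (hw : c * v * c⁻¹ = w) {p : Ω}
    (hp : v • p = p) : w • (c • p) = c • p := by
  rw [← hw, ← mul_smul, show c * v * c⁻¹ * c = c * v by group, mul_smul, hp]

/-- The element centralising `x`. -/
def Conj (x u w : G) : Prop := ∃ c : G, Commute c x ∧ c * u * c⁻¹ = w

theorem Conj.mul {x u w : G} (h : Conj x u w) : Conj x (u * x) (w * x) := by
  obtain ⟨c, hc, rfl⟩ := h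
  exact ⟨c, hc, by
    calc c * (u * x) * c⁻¹ = c * u * c⁻¹ * (c * x * c⁻¹) := by group
      _ = c * u * c⁻¹ * x := by rw [hc.eq, mul_inv_cancel_right]⟩

theorem Conj.trans {x u v w : G} (h : Conj x u v) (h' : Conj x v w) : Conj x u w := by
  obtain ⟨c, hc, rfl⟩ := h
  obtain ⟨d, hd, rfl⟩ := h'
  exact ⟨d * c, hd.mul_left hc, by group⟩

theorem Conj.symm {x u w : G} (h : Conj x u w) : Conj x w u := by
  obtain ⟨c, hc, rfl⟩ := h
  exact ⟨c⁻¹, hc.inv_left, by group⟩

variable [Finite G] {M : Subgroup G} {S : Sylow 2 G}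

/-- Two involutions of `C(x)` at different points. -/
theorem TwoCore.pair (h : TwoCore M S) {x u w : G} (hx : orderOf x = 2) (hu : orderOf u = 2)
    (hw : orderOf w = 2) (hux : u ≠ x) (hwx : w ≠ x) (hcu : Commute u x) (hcw : Commute w x)
    {p q : G ⧸ M} (hup : u • p = p) (hxp : x • p = p) (hwq : w • q = q) (hxq : x • q = q)
    (hpq : p ≠ q) :
    Conj x u w ∨ Conj x (u * x) w ∨ Conj x u (u * x) := by
  set d := w * u with hd
  have hdx : Commute d x := hcw.mul_left hcu
  by_cases hodd : Odd (orderOf d)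
  · obtain ⟨k, ⟨i, hi⟩, -, -, hk⟩ := exists_conj_of_odd hu hw hodd
    refine Or.inl ⟨k, ?_, hk⟩
    rw [← hi]
    exact hdx.zpow_left i
  obtain ⟨l, hl⟩ := Nat.not_odd_iff_even.mp hodd
  have hpos := orderOf_pos d
  set e := d ^ l with he
  have he2 : orderOf e = 2 := by
    rw [he, orderOf_pow_of_dvd (by omega) (hl ▸ ⟨2, by ring⟩), hl]
    exact Nat.div_eq_of_eq_mul_left (by omega) (by ring)
  have hud : u * d * u⁻¹ = d⁻¹ := conj_mul_involutions hu hw
  have heu : Commute e u := by
    have : u * e * u⁻¹ = e := by rw [he, ← conj_pow, hud, inv_pow, inv_eq_of_orderOf_eq_two he2]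
    exact (mul_inv_eq_iff_eq_mul.mp this).symm
  have hew : Commute e w := by
    have : w = d * u := by rw [hd, mul_assoc, mul_self_of_orderOf_eq_two hu, mul_one]
    rw [this]
    exact (Commute.pow_self d l).mul_right heu
  have hex : Commute e x := hdx.pow_left l
  have hkey : e = x := by
    by_contra hne
    obtain ⟨r, her, hxr⟩ := h.exists_fixed he2 hx hex
    have hfix : ∀ {t : G}, orderOf t = 2 → t ≠ x → Commute t x → Commute t e →
        ∀ {s : G ⧸ M}, t • s = s → x • s = s → r = s := by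
      intro t ht htx hct hte s hts hxs
      have hte' : e • (t • r) = t • r := by rw [← mul_smul, ← hte.eq, mul_smul, her]
      have htx' : x • (t • r) = t • r := by rw [← mul_smul, ← hct.eq, mul_smul, hxr]
      exact h.fixed_unique ht hx htx hct (h.fixed_unique he2 hx hne hex her hxr hte' htx').symm
        hxr hts hxs
    exact hpq ((hfix hu hux hcu heu.symm hup hxp).symm.trans (hfix hw hwx hcw hew.symm hwq hxq))
  rcases Nat.even_or_odd l with ⟨j, hj⟩ | ⟨j, hj⟩
  · refine Or.inr (Or.inr ⟨d ^ j, hdx.pow_left j, ?_⟩)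
    have h1 := zpow_conj_mul hud (j : ℤ) 0
    rw [zpow_zero, one_mul, zero_add, show (2 : ℤ) * (j : ℤ) = ((l : ℕ) : ℤ) by rw [hj]; push_cast; ring,
      zpow_natCast, zpow_natCast, ← he, hkey] at h1
    rw [h1, hcu.eq]
  · refine Or.inr (Or.inl ⟨d ^ (-(j : ℤ)), hdx.zpow_left _, ?_⟩)
    have h1 := zpow_conj_mul hud (-(j : ℤ)) (l : ℤ)
    rw [zpow_natCast, ← he, hkey, show (l : ℤ) + 2 * -(j : ℤ) = 1 by rw [hj]; push_cast; ring,
      zpow_one] at h1
    rw [hcu.eq, h1, hd, mul_assoc, mul_self_of_orderOf_eq_two hu, mul_one]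

/-- An involution central in a Sylow 2-subgroup of `C(x)` is not conjugate there to its product
with `x`. -/
theorem not_conj_mul {x v : G} (hx : orderOf x = 2) (P : Sylow 2 (centralizer ({x} : Set G)))
    (hvx : Commute v x) (hvP : ∀ s ∈ (P : Subgroup (centralizer ({x} : Set G))), Commute v (s : G)) :
    ¬ Conj x v (v * x) := by
  haveI : Fact (Nat.Prime 2) := ⟨Nat.prime_two⟩
  rintro ⟨c, hc, hcv⟩
  let v' : centralizer ({x} : Set G) := ⟨v, mem_centralizer_singleton_iff.mpr hvx.eq⟩
  let x' : centralizer ({x} : Set G) := ⟨x, mem_centralizer_singleton_iff.mpr rfl⟩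
  let c' : centralizer ({x} : Set G) := ⟨c, mem_centralizer_singleton_iff.mpr hc.eq⟩
  have hvC : v' ∈ centralizer ((P : Subgroup (centralizer ({x} : Set G))) : Set _) :=
    fun s hs => Subtype.ext (hvP s hs).symm.eq
  have hxC : x' ∈ centralizer ((P : Subgroup (centralizer ({x} : Set G))) : Set _) :=
    fun s _ => Subtype.ext (mem_centralizer_singleton_iff.mp s.2)
  have he : c' * v' * c'⁻¹ = v' * x' := Subtype.ext hcv
  obtain ⟨n, hn, hnv⟩ := Fusion.burnside_fusion_centralizer P hvC
    (by rw [he]; exact mul_mem hvC hxC)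
  rw [he] at hnv
  obtain ⟨k, o, ho, hno⟩ := Nat.exists_eq_pow_mul_and_not_dvd (orderOf_pos n).ne' 2 (by norm_num)
  have hodd : Odd o := Nat.odd_iff.mpr (Nat.two_dvd_ne_zero.mp ho)
  have hxfix : ∀ i : ℕ, (n ^ i) * x' * (n ^ i)⁻¹ = x' := fun i => Subtype.ext (by
    show ((n ^ i : centralizer ({x} : Set G)) : G) * x * _ = x
    rw [(mem_centralizer_singleton_iff.mp (n ^ i : centralizer ({x} : Set G)).2)]
    push_cast
    group)
  have hpow : ∀ i : ℕ, n ^ i * v' * (n ^ i)⁻¹ = v' * x' ^ i := by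
    intro i
    induction i with
    | zero => simp
    | succ i ih =>
      calc n ^ (i + 1) * v' * (n ^ (i + 1))⁻¹
          = n * (n ^ i * v' * (n ^ i)⁻¹) * n⁻¹ := by rw [pow_succ']; group
        _ = (n * v' * n⁻¹) * (n * x' * n⁻¹) ^ i := by rw [ih, conj_pow]; group
        _ = v' * x' ^ (i + 1) := by
          rw [hnv, show n * x' * n⁻¹ = x' by simpa using hxfix 1, pow_succ', mul_assoc]
  have hoP : n ^ o ∈ (P : Subgroup (centralizer ({x} : Set G))) := by
    have hp : IsPGroup 2 (zpowers (n ^ o)) := by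
      refine IsPGroup.of_card (n := k) ?_
      rw [Nat.card_zpowers, orderOf_pow_of_dvd hodd.pos.ne'
        (hno ▸ Dvd.intro_left _ rfl), hno, Nat.mul_div_cancel _ hodd.pos]
    have hm : n ^ o ∈ zpowers (n ^ o) ⊓ (P : Subgroup (centralizer ({x} : Set G))) := by
      rw [← hp.inf_normalizer_sylow P]
      exact ⟨mem_zpowers _, pow_mem hn o⟩
    exact hm.2
  have h1 := hpow o
  have h2 : n ^ o * v' * (n ^ o)⁻¹ = v' :=
    mul_inv_eq_iff_eq_mul.mpr (hvC _ hoP)
  obtain ⟨j, rfl⟩ := hodd
  have hxx : x' ^ 2 = 1 := Subtype.ext (by simpa [sq] using mul_self_of_orderOf_eq_two hx)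
  rw [h2, pow_succ, pow_mul, hxx, one_pow, one_mul] at h1
  have : x' = 1 := by
    have := congrArg (fun t => v'⁻¹ * t) h1
    simpa using this.symm
  exact ne_one_of_orderOf_eq_two hx (congrArg Subtype.val this)

/-- **Two classes**: every involution `≠ x` of `C(x)` is conjugate to `v` or to `v * x`. -/
theorem TwoCore.two_classes (h : TwoCore M S) {x v : G} (hx : orderOf x = 2)
    {p q : G ⧸ M} (hpq : p ≠ q) (hxp : x • p = p) (hxq : x • q = q) (hv : orderOf v = 2)
    (hvx : v ≠ x) (hcv : Commute v x) (P : Sylow 2 (centralizer ({x} : Set G)))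
    (hvP : ∀ s ∈ (P : Subgroup (centralizer ({x} : Set G))), Commute v (s : G))
    {u : G} (hu : orderOf u = 2) (hux : u ≠ x) (hcu : Commute u x) :
    Conj x v u ∨ Conj x (v * x) u := by
  have hno := not_conj_mul hx P hcv hvP
  obtain ⟨r, hvr, hxr⟩ := h.exists_fixed hv hx hcv
  have hdiff : ∀ {w : G}, orderOf w = 2 → w ≠ x → Commute w x → ∀ {s : G ⧸ M}, w • s = s →
      x • s = s → s ≠ r → Conj x v w ∨ Conj x (v * x) w := fun hw hwx hcw _ hws hxs hsr =>
    (h.pair hx hv hw hvx hwx hcv hcw hvr hxr hws hxs (Ne.symm hsr)).imp id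
      fun h2 => h2.resolve_right hno
  obtain ⟨s, hus, hxs⟩ := h.exists_fixed hu hx hcu
  by_cases hsr : s = r
  swap
  · exact hdiff hu hux hcu hus hxs hsr
  obtain ⟨t, hxt, htr⟩ : ∃ t : G ⧸ M, x • t = t ∧ t ≠ r := by
    by_cases e : p = r
    exacts [⟨q, hxq, fun e' => hpq (e.trans e'.symm)⟩, ⟨p, hxp, e⟩]
  obtain ⟨b, hb, hbx, hcb, hbt⟩ := h.exists_partner hx hxt
  -- an element of `C(x)` moving the point of `v` to `t`
  obtain ⟨c, hc, hct⟩ : ∃ c : G, Commute c x ∧ c • r = t := by
    have key : ∀ {v' : G}, orderOf v' = 2 → v' • r = r → Conj x v' b → ∃ c : G, Commute c x ∧ c • r = t := by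
      rintro v' - hv'r ⟨c, hc, hcb'⟩
      refine ⟨c, hc, h.fixed_unique hb hx hbx hcb (smul_conj hcb' hv'r) ?_ hbt hxt⟩
      rw [← mul_smul, ← hc.eq, mul_smul, hxr]
    rcases hdiff hb hbx hcb hbt hxt htr with hh | hh
    · exact key hv hvr hh
    · exact key (orderOf_mul_two hv hx hvx hcv) (by rw [mul_smul, hxr, hvr]) hh
  have hu' : orderOf (c * u * c⁻¹) = 2 := by rw [H39.orderOf_conj, hu]
  have hcux : Commute (c * u * c⁻¹) x := (hc.mul_left hcu).mul_left hc.inv_left
  have hux' : c * u * c⁻¹ ≠ x := fun e => hux ((MulAut.conj c).injective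
    (e.trans (by show x = c * x * c⁻¹; rw [hc.eq, mul_inv_cancel_right])))
  have hback : Conj x (c * u * c⁻¹) u := ⟨c⁻¹, hc.inv_left, by group⟩
  rcases hdiff hu' hux' hcux (s := t) (hct ▸ smul_conj rfl (hsr ▸ hus)) hxt htr with hh | hh
  · exact Or.inl (hh.trans hback)
  · exact Or.inr (hh.trans hback)

end Cfsg.Agent.H1.Core2
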