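import Cfsg.Agent.H1.Core2.Classes
import Cfsg.Agent.H1.Asch.Cover
import Cfsg.Agent.H1.Asch.RedRows
import Cfsg.Agent.H73.Asch.CoreMain
import Cfsg.Agent.S1221

/-!
# A 2-central involution with its centraliser in `M`

If `M` contains a Sylow 2-subgroup and the normalisers of its subgroups of rank at least two, and
the centraliser of some 2-central involution, then `M` is strongly embedded in the simple group.
-/

set_option autoImplicit false
set_option linter.unusedSectionVars false
set_option linter.style.haveILetI false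

namespace Cfsg.Agent.H1.Core2

open Subgroup MulAction
open Cfsg.Agent.H39
open Cfsg.Agent.H1.Asch.Red
open Cfsg.Agent.H14.Asch
open Cfsg (IsStronglyEmbedded)

universe u

variable {G : Type u} [Group G] [Finite G] {M : Subgroup G} {S : Sylow 2 G}

/-- An involution of `M` with centraliser in `M` fixes only one coset. -/
theorem TwoCore.fixed_eq_one (h : TwoCore M S) {z : G} (hz : orderOf z = 2)
    (hC : centralizer ({z} : Set G) ≤ M) {q : G ⧸ M} (hq : z • q = q) :
    q = QuotientGroup.mk 1 := by
  have hzM : z ∈ M := hC (mem_centralizer_singleton_iff.mpr rfl)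
  obtain ⟨b, hb, hbz, hcb, hbq⟩ := h.exists_partner hz hq
  exact h.fixed_unique hz hb hbz.symm hcb.symm hq hbq ((fixed_one_iff z).mpr hzM)
    ((fixed_one_iff b).mpr (hC (mem_centralizer_singleton_iff.mpr hcb.eq)))

/-- The product of two commuting conjugates of a good 2-central involution fixes one point. -/
theorem TwoCore.prod_unique (h : TwoCore M S) {z : G} (hz : orderOf z = 2)
    (hzS : ∀ s ∈ S, Commute s z) (hzmem : z ∈ S)
    (huniq : ∀ {a : G}, IsConj z a → ∀ {p q : G ⧸ M}, a • p = p → a • q = q → p = q)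
    {a b : G} (ha : IsConj z a) (hb : IsConj z b) (hne : a ≠ b) (hab : Commute a b)
    {p q : G ⧸ M} (hp : (a * b) • p = p) (hq : (a * b) • q = q) : p = q := by
  haveI : Fact (Nat.Prime 2) := ⟨Nat.prime_two⟩
  have hz2 : ∀ {t : G}, IsConj z t → orderOf t = 2 := fun {t} ht => by
    obtain ⟨g, rfl⟩ := isConj_iff.mp ht
    rw [H39.orderOf_conj, hz]
  by_contra hpq
  set x := a * b with hxdef
  have hx : orderOf x = 2 := orderOf_mul_two (hz2 ha) (hz2 hb) hne hab
  have hax : Commute a x := (Commute.refl a).mul_right hab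
  have hnx : ¬ IsConj z x := fun hc => hpq (huniq hc hp hq)
  have hane : a ≠ x := fun e => hnx (e ▸ ha)
  have hb' : b = a * x := by
    rw [hxdef, ← mul_assoc, mul_self_of_orderOf_eq_two (hz2 ha), one_mul]
  set C := centralizer ({x} : Set G) with hC
  obtain ⟨P⟩ : Nonempty (Sylow 2 C) := inferInstance
  set T := (P : Subgroup C).map C.subtype with hT
  have hxT : x ∈ T := by
    let x' : C := ⟨x, mem_centralizer_singleton_iff.mpr rfl⟩
    have hp : IsPGroup 2 (zpowers x') := IsPGroup.of_card (n := 1)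
      (by rw [Nat.card_zpowers, ← Subgroup.orderOf_coe]; exact hx)
    have hN : zpowers x' ≤ normalizer ((P : Subgroup C) : Set C) := zpowers_le.mpr
      (centralizer_le_normalizer _ (show x' ∈ centralizer ((P : Subgroup C) : Set C) from
        fun (s : C) _ => Subtype.ext (mem_centralizer_singleton_iff.mp s.2)))
    have hm : x' ∈ zpowers x' ⊓ (P : Subgroup C) := by
      rw [← hp.inf_normalizer_sylow P]
      exact ⟨mem_zpowers _, hN (mem_zpowers _)⟩
    exact ⟨x', hm.2, rfl⟩
  -- a Sylow 2-subgroup of `C(x)` is one of `G` when its normaliser centralises `x`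
  have hfull : (∀ n ∈ normalizer (T : Set G), Commute n x) → ∃ R : Sylow 2 G, T = R := by
    intro hN
    obtain ⟨R, hR⟩ := (P.isPGroup'.map C.subtype).exists_le_sylow
    refine ⟨R, by_contra fun hTne => ?_⟩
    obtain ⟨n, hnR, hnT, hnN⟩ := exists_normalizer_not_mem hR hTne
    have hnC : n ∈ C := mem_centralizer_singleton_iff.mpr (hN n hnN).eq
    have hT1 : (T ⊔ zpowers n).comap C.subtype = (P : Subgroup C) := by
      refine P.is_maximal' (IsPGroup.comap_subtype (IsPGroup.to_le R.isPGroup'
        (sup_le hR (zpowers_le.mpr hnR)))) fun r hr => ?_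
      exact le_sup_left (a := T) (b := zpowers n) ⟨r, hr, rfl⟩
    exact hnT ⟨⟨n, hnC⟩, hT1 ▸ mem_sup_right (mem_zpowers n), rfl⟩
  -- an involution centralising `T` lies in `T`
  have hZ : ∀ {y : G}, orderOf y = 2 → (∀ t ∈ T, Commute y t) → y ∈ C := fun _ hc =>
    mem_centralizer_singleton_iff.mpr (hc x hxT).eq
  by_cases hv : ∃ v : G, orderOf v = 2 ∧ v ≠ x ∧ ∀ t ∈ T, Commute v t
  · obtain ⟨v, hv, hvx, hvT⟩ := hv
    have hcv : Commute v x := hvT x hxT
    have hvP : ∀ s ∈ (P : Subgroup C), Commute v (s : G) := fun s hs => hvT _ ⟨s, hs, rfl⟩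
    have hcl : ∀ {u : G}, orderOf u = 2 → u ≠ x → Commute u x → Conj x v u ∨ Conj x (v * x) u :=
      fun hu hux hcu => h.two_classes hx hpq hp hq hv hvx hcv P hvP hu hux hcu
    -- both `v` and `v * x` are conjugate to `z`
    have hconj : ∀ {u w : G}, Conj x u w → IsConj z w → IsConj z u := fun hc hw => by
      obtain ⟨c, -, rfl⟩ := hc
      exact hw.trans (isConj_iff.mpr ⟨c⁻¹, by group⟩)
    have hboth : IsConj z v ∧ IsConj z (v * x) := by
      rcases hcl (hz2 ha) hane hax with hh | hh
      · exact ⟨hconj hh ha, hconj hh.mul (hb' ▸ hb)⟩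
      · refine ⟨?_, hconj hh ha⟩
        have h1 := hh.mul
        rw [mul_assoc, mul_self_of_orderOf_eq_two hx, mul_one, ← hb'] at h1
        exact hconj h1 hb
    -- the normaliser of `T` centralises `x`
    have hN : ∀ n ∈ normalizer (T : Set G), Commute n x := by
      intro n hn
      have hy2 : orderOf (n * x * n⁻¹) = 2 := by rw [H39.orderOf_conj, hx]
      have hyT : ∀ t ∈ T, Commute (n * x * n⁻¹) t := by
        intro t ht
        have hc : t ∈ T → ∀ s ∈ T, Commute x s := fun _ s ⟨s', _, e⟩ =>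
          e ▸ (show Commute (s' : G) x from mem_centralizer_singleton_iff.mp s'.2).symm
        have hm : n⁻¹ * t * n ∈ T := (mem_normalizer_iff.mp hn _).mpr (by simpa [mul_assoc] using ht)
        have := (hc ht _ hm).map (MulAut.conj n).toMonoidHom
        simpa [mul_assoc] using this
      by_contra hne'
      have hyx : n * x * n⁻¹ ≠ x := fun e => hne' (mul_inv_eq_iff_eq_mul.mp e)
      have hzy : IsConj z (n * x * n⁻¹) := by
        rcases hcl hy2 hyx (hyT x hxT) with ⟨c, -, hc⟩ | ⟨c, -, hc⟩
        · exact hboth.1.trans (isConj_iff.mpr ⟨c, hc⟩)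
        · exact hboth.2.trans (isConj_iff.mpr ⟨c, hc⟩)
      exact hnx (hzy.trans (isConj_iff.mpr ⟨n⁻¹, by group⟩))
    obtain ⟨R, hR⟩ := hfull hN
    obtain ⟨g, hg⟩ := isConj_iff.mp (hboth.1.symm.trans hboth.2)
    have hvR : v ∈ centralizer ((R : Subgroup G) : Set G) := fun t ht =>
      (hvT t (by rw [hR]; exact ht)).symm.eq
    have hvxR : g * v * g⁻¹ ∈ centralizer ((R : Subgroup G) : Set G) := by
      rw [hg]
      refine mul_mem hvR fun t ht => ?_
      have htT : t ∈ T := by rw [hR]; exact ht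
      obtain ⟨s', -, rfl⟩ := htT
      exact mem_centralizer_singleton_iff.mp s'.2
    obtain ⟨n, hn, hnv⟩ := Fusion.burnside_fusion_centralizer R hvR hvxR
    exact not_conj_mul hx P hcv hvP ⟨n, hN n (by rw [hR]; exact hn), hnv.trans hg⟩
  · push Not at hv
    have honly : ∀ {y : G}, orderOf y = 2 → (∀ t ∈ T, Commute y t) → y = x := fun hy hc =>
      by_contra fun hne' => by
        obtain ⟨t, ht, hnt⟩ := hv _ hy hne'
        exact hnt (hc t ht)
    have hN : ∀ n ∈ normalizer (T : Set G), Commute n x := by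
      intro n hn
      have hy2 : orderOf (n * x * n⁻¹) = 2 := by rw [H39.orderOf_conj, hx]
      have e : n * x * n⁻¹ = x := honly hy2 fun t ht => by
        have hm : n⁻¹ * t * n ∈ T := (mem_normalizer_iff.mp hn _).mpr (by simpa [mul_assoc] using ht)
        obtain ⟨s', -, e⟩ := hm
        have e' : (s' : G) = n⁻¹ * t * n := e
        have hc : Commute x (n⁻¹ * t * n) :=
          (e' ▸ mem_centralizer_singleton_iff.mp s'.2 : Commute (n⁻¹ * t * n) x).symm
        have := hc.map (MulAut.conj n).toMonoidHom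
        simpa [mul_assoc] using this
      exact mul_inv_eq_iff_eq_mul.mp e
    obtain ⟨R, hR⟩ := hfull hN
    obtain ⟨g, hg⟩ := exists_smul_eq G S R
    refine hnx (isConj_iff.mpr ⟨g, honly (by rw [H39.orderOf_conj, hz]) fun t ht => ?_⟩)
    rw [hR, SetLike.mem_coe.symm, ← hg, Sylow.coe_subgroup_smul] at ht
    obtain ⟨s, hs, rfl⟩ := ht
    simpa [mul_assoc] using ((hzS s hs).map (MulAut.conj g).toMonoidHom).symm

/-- A 2-central involution of `M` with centraliser in `M`: `M` is strongly embedded. -/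
theorem TwoCore.stronglyEmbedded [IsSimpleGroup G] (h : TwoCore M S) (hM : M ≠ ⊤) {z : G}
    (hz : orderOf z = 2) (hzS : z ∈ S) (hcent : ∀ s ∈ S, Commute s z)
    (hC : centralizer ({z} : Set G) ≤ M) : IsStronglyEmbedded M := by
  have hzM : z ∈ M := hC (mem_centralizer_singleton_iff.mpr rfl)
  have huniq : ∀ {a : G}, IsConj z a → ∀ {p q : G ⧸ M}, a • p = p → a • q = q → p = q := by
    intro a ha p q hp hq
    obtain ⟨g, rfl⟩ := isConj_iff.mp ha
    have hone : ∀ {r : G ⧸ M}, (g * z * g⁻¹) • r = r → g⁻¹ • r = QuotientGroup.mk 1 :=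
      fun {r} hr => h.fixed_eq_one hz hC (by
        rw [← mul_smul, show z * g⁻¹ = g⁻¹ * (g * z * g⁻¹) by group, mul_smul, hr])
    exact MulAction.injective g⁻¹ ((hone hp).trans (hone hq).symm)
  have hset : Setting G (G ⧸ M) (conjugatesOf z) z := by
    refine setting_cosets (fun {a} ha g => (show IsConj z a from ha).trans (isConj_iff.mpr ⟨g, rfl⟩))
      (fun {a} ha => ?_) ?_ ?_ mem_conjugatesOf_self S hcent hM ?_
    · obtain ⟨g, rfl⟩ := isConj_iff.mp ha
      rw [H39.orderOf_conj, hz]
    · intro a ha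
      obtain ⟨g, rfl⟩ := isConj_iff.mp ha
      exact ⟨g, by simpa [mul_assoc] using hzM⟩
    · intro a ha haM g hg
      have := huniq ha (p := QuotientGroup.mk g⁻¹) (q := QuotientGroup.mk 1)
        ((smul_coset_eq_iff _ _).mpr (by simpa using hg)) ((fixed_one_iff a).mpr haM)
      simpa using (mk_eq_one_iff g⁻¹).mp this
    · intro a ha b hb haM hbM hab hc c hcC
      have hcc : Commute c (a * b) := mem_centralizer_singleton_iff.mp hcC
      have h1 : (a * b) • (QuotientGroup.mk 1 : G ⧸ M) = QuotientGroup.mk 1 :=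
        (fixed_one_iff _).mpr (mul_mem haM hbM)
      refine (mk_eq_one_iff c).mp (h.prod_unique hz hcent hzS huniq ha hb hab hc (q := QuotientGroup.mk 1)
        ?_ h1)
      rw [smul_coset_eq_iff, show c⁻¹ * (a * b) * c = a * b by
        rw [mul_assoc, ← hcc.eq, inv_mul_cancel_left]]
      exact mul_mem haM hbM
  have htop : closure (conjugatesOf z) = ⊤ := by
    have hn : (closure (conjugatesOf z)).Normal := by
      rw [show closure (conjugatesOf z) = normalClosure ({z} : Set G) by
        rw [normalClosure, Group.conjugatesOfSet, Set.biUnion_singleton]]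
      infer_instance
    refine hn.eq_bot_or_eq_top.resolve_left fun hb => ?_
    have h0 : z ∈ (⊥ : Subgroup G) := hb ▸ subset_closure mem_conjugatesOf_self
    rw [Subgroup.mem_bot.mp h0, orderOf_one] at hz
    exact absurd hz (by norm_num)
  have hcl : Clique G (G ⧸ M) (conjugatesOf z) := by
    refine hset.clique_of_faithful fun g hg => ?_
    have hcore : M.normalCore = ⊥ :=
      (Subgroup.normalCore_normal M).eq_bot_or_eq_top.resolve_right fun e =>
        hM (top_unique (e ▸ M.normalCore_le))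
    refine Subgroup.mem_bot.mp (hcore ▸ (fun b => ?_ : g ∈ M.normalCore))
    have := (smul_coset_eq_iff g b⁻¹).mp (hg (QuotientGroup.mk b⁻¹))
    simpa using this
  refine ⟨hM, ?_, fun g hg => ?_⟩
  · rw [even_iff_two_dvd, ← hz]
    exact Subgroup.orderOf_dvd_natCard _ hzM
  · rw [← Nat.not_even_iff_odd]
    intro heven
    haveI : Fact (Nat.Prime 2) := ⟨Nat.prime_two⟩
    obtain ⟨⟨w, hw⟩, hw2⟩ := exists_prime_orderOf_dvd_card' 2 heven.two_dvd
    rw [Subgroup.orderOf_mk] at hw2
    obtain ⟨hwM, v, hv, hvw⟩ := hw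
    have h2' : w • (QuotientGroup.mk g : G ⧸ M) = QuotientGroup.mk g := by
      rw [smul_coset_eq_iff, ← hvw]
      simpa [mul_assoc] using hv
    exact hg ((mk_eq_one_iff g).mp (hset.noBad H73.Asch.coreHolds H1.Asch.Red.cover hcl
      (htop ▸ mem_top w) hw2 ((fixed_one_iff w).mpr hwM) h2').symm)

/-- In that case `M` has no nontrivial normal subgroup of odd order. -/
theorem TwoCore.oddCore_eq_bot [IsSimpleGroup G] (h : TwoCore M S) (hM : M ≠ ⊤) {z : G}
    (hz : orderOf z = 2) (hzS : z ∈ S) (hcent : ∀ s ∈ S, Commute s z)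
    (hC : centralizer ({z} : Set G) ≤ M) : Cfsg.oddCore ↥M = ⊥ := by
  have hle := Cfsg.Agent.S1221.result M (h.stronglyEmbedded hM hz hzS hcent hC)
  have hG : Cfsg.oddCore G = ⊥ := by
    refine (show (Cfsg.oddCore G).Normal from inferInstance).eq_bot_or_eq_top.resolve_right
      fun e => ?_
    have hodd : Odd (Nat.card G) := by
      have := Cores.odd_card_oddCore (G := G)
      rwa [e, card_top] at this
    exact (Nat.not_even_iff_odd.mpr hodd) (even_iff_two_dvd.mpr (hz ▸ orderOf_dvd_natCard z))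
  rw [hG, le_bot_iff] at hle
  exact (map_eq_bot_iff_of_injective _ M.subtype_injective).mp hle

end Cfsg.Agent.H1.Core2
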