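import Cfsg.Agent.H39.Dihedral
import Mathlib.GroupTheory.PGroup

/-!
# Fixed points of commuting involutions and odd subgroups normalised by transitive 2-groups

Two lemmas for the residual shape of the core killing: a point is fixed by a given involution or by
one centralising it with a second fixed point, and an odd subgroup normalised by a transitive
2-group fixes all points.
-/

set_option autoImplicit false
set_option linter.style.haveILetI false

namespace Cfsg.Agent.H1.Core2

open Subgroup MulAction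
open Cfsg.Agent.H39

universe u v

variable {Y : Type u} [Group Y] [Finite Y] {Ω : Type v} [MulAction Y Ω]

/-- A point whose only fixing involution `a` is not conjugate to `b` is fixed by `b` or by an
involution centralising `b` that fixes a second point. -/
theorem fix_or_exists_commuting {a b : Y} (ha : orderOf a = 2) (hb : orderOf b = 2)
    (hne : ¬ IsConj a b) {p : Ω} (hp : a • p = p) (huniq : ∀ q : Ω, a • q = q → q = p) :
    b • p = p ∨ ∃ w : Y, orderOf w = 2 ∧ Commute w b ∧ w • p = p ∧ ∃ q : Ω, q ≠ p ∧ w • q = q := by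
  have heven : Even (orderOf (b * a)) := by
    by_contra h
    obtain ⟨k, -, -, -, hk⟩ := exists_conj_of_odd ha hb (Nat.not_even_iff_odd.1 h)
    exact hne (isConj_iff.2 ⟨k, hk⟩)
  obtain ⟨w, hw, -, hwa, hwb⟩ := exists_central_involution ha hb heven
  have hwp : w • p = p := huniq _ (by rw [← mul_smul, ← hwa.eq, mul_smul, hp])
  by_cases h : ∀ q : Ω, w • q = q → q = p
  · exact Or.inl (h _ (by rw [← mul_smul, hwb.eq, mul_smul, hwp]))
  · push Not at h
    obtain ⟨q, hq, hqp⟩ := h
    exact Or.inr ⟨w, hw, hwb, hwp, q, hqp, hq⟩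

omit [Finite Y] in
/-- A subgroup of odd order normalised by a 2-group transitive on an invariant set fixes that set
pointwise. -/
theorem fixes_of_transitive_two {X R : Subgroup Y} (hX : Odd (Nat.card X)) (hR : IsPGroup 2 R)
    (hn : R ≤ normalizer (X : Set Y)) (Δ : Set Ω) [Finite Δ] (hXΔ : ∀ x ∈ X, ∀ q ∈ Δ, x • q ∈ Δ)
    (htr : ∀ q ∈ Δ, ∀ q' ∈ Δ, ∃ g ∈ R, g • q = q') (hRΔ : ∀ g ∈ R, ∀ q ∈ Δ, g • q ∈ Δ)
    {x : Y} (hx : x ∈ X) {q : Ω} (hq : q ∈ Δ) : x • q = q := by
  haveI : Fact (Nat.Prime 2) := ⟨Nat.prime_two⟩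
  -- all orbits on `Δ` have the size of the orbit of `q`
  have hsize : ∀ q' ∈ Δ, Nat.card ↥(orbit X q') = Nat.card ↥(orbit X q) := by
    intro q' hq'
    obtain ⟨g, hg, rfl⟩ := htr q hq q' hq'
    have he : orbit X (g • q) = (fun r => g • r) '' orbit X q := by
      ext r
      constructor
      · rintro ⟨y, rfl⟩
        have hy : g⁻¹ * (y : Y) * g ∈ X := by
          simpa using (mem_normalizer_iff.1 (inv_mem (hn hg)) (y : Y)).1 y.2
        refine ⟨(⟨g⁻¹ * (y : Y) * g, hy⟩ : X) • q, ⟨_, rfl⟩, ?_⟩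
        show g • ((g⁻¹ * (y : Y) * g) • q) = (y : Y) • (g • q)
        rw [← mul_smul, ← mul_smul, mul_assoc g⁻¹, mul_inv_cancel_left]
      · rintro ⟨_, ⟨y, rfl⟩, rfl⟩
        refine ⟨⟨g * (y : Y) * g⁻¹, (mem_normalizer_iff.1 (hn hg) (y : Y)).1 y.2⟩, ?_⟩
        show (g * (y : Y) * g⁻¹) • (g • q) = g • ((y : Y) • q)
        rw [← mul_smul, ← mul_smul, inv_mul_cancel_right]
    rw [he]
    exact Nat.card_image_of_injective (MulAction.injective g) _
  set k := Nat.card ↥(orbit X q)
  have hdvd : k ∣ Nat.card X := by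
    rw [show k = Nat.card ↥(orbit X q) from rfl, Nat.card_congr (orbitEquivQuotientStabilizer X q)]
    exact card_quotient_dvd_card _
  -- the orbits partition `Δ`, whose size is a power of 2
  let act : MulAction X Δ :=
    { smul := fun y r => ⟨(y : Y) • (r : Ω), hXΔ y y.2 r r.2⟩
      one_smul := fun r => Subtype.ext (one_smul Y (r : Ω))
      mul_smul := fun y y' r => Subtype.ext (mul_smul (y : Y) y' (r : Ω)) }
  let _ := act
  have hk : k ∣ Nat.card Δ := by
    haveI : Fintype (Quotient (orbitRel X Δ)) := Fintype.ofFinite _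
    rw [Nat.card_congr (MulAction.selfEquivSigmaOrbits X Δ), Nat.card_sigma]
    refine Finset.dvd_sum fun i _ => dvd_of_eq ?_
    refine (hsize _ (Quotient.out i).2).symm.trans (Nat.card_congr ?_)
    refine Equiv.ofBijective (fun r => ⟨⟨(r : Ω), ?_⟩, ?_⟩) ⟨?_, ?_⟩
    · obtain ⟨y, hy⟩ := r.2
      exact hy ▸ hXΔ y y.2 _ (Quotient.out i).2
    · obtain ⟨y, hy⟩ := r.2
      exact ⟨y, Subtype.ext hy⟩
    · intro r r' e
      exact Subtype.ext (congrArg (fun t => ((t : Δ) : Ω)) (congrArg Subtype.val e))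
    · rintro ⟨r, y, hy⟩
      exact ⟨⟨r, y, congrArg Subtype.val hy⟩, rfl⟩
  let actR : MulAction R Δ :=
    { smul := fun g r => ⟨(g : Y) • (r : Ω), hRΔ g g.2 r r.2⟩
      one_smul := fun r => Subtype.ext (one_smul Y (r : Ω))
      mul_smul := fun g g' r => Subtype.ext (mul_smul (g : Y) g' (r : Ω)) }
  let _ := actR
  obtain ⟨n, hn'⟩ := hR.card_orbit (⟨q, hq⟩ : Δ)
  have htop : orbit R (⟨q, hq⟩ : Δ) = Set.univ := Set.eq_univ_of_forall fun r => by
    obtain ⟨g, hg, e⟩ := htr q hq r r.2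
    exact ⟨⟨g, hg⟩, Subtype.ext e⟩
  rw [htop, Nat.card_univ] at hn'
  have hk1 : k = 1 := Nat.eq_one_of_dvd_coprimes
    ((Nat.coprime_two_left.2 hX).pow_left n) (hn' ▸ hk) hdvd
  have h1 : (⟨x, hx⟩ : X) • q ∈ orbit X q := mem_orbit _ _
  haveI : Subsingleton ↥(orbit X q) := (Nat.card_eq_one_iff_unique.1 hk1).1
  exact congrArg Subtype.val
    (Subsingleton.elim (⟨_, h1⟩ : orbit X q) ⟨q, mem_orbit_self q⟩)

end Cfsg.Agent.H1.Core2
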